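import Groth.Agent.GrpSchLib.LineGroups
import Groth.Prelude.Def_AlgGrp
import Mathlib.FieldTheory.Minpoly.Field
import Mathlib.RingTheory.PowerBasis
import Mathlib.RingTheory.Flat.TorsionFree
import Mathlib.RingTheory.Ideal.GoingUp
import Mathlib.RingTheory.RingHom.FaithfullyFlat
import Mathlib.AlgebraicGeometry.Morphisms.Flat
import Mathlib.AlgebraicGeometry.Morphisms.Finite
import Mathlib.Algebra.Polynomial.HasseDeriv
import Mathlib.Algebra.Polynomial.Taylor

/-!
# Finite subgroup schemes of a group scheme on an affine line: common tools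
-/

universe u

open CategoryTheory Limits AlgebraicGeometry MonoidalCategory CartesianMonoidalCategory MonObj GrpObj

namespace Groth.Agent.LineSub

open GrpSchLib GrpSchLib.Kunneth Polynomial

variable {k : Type u} [Field k] {G H : Over (Spec (CommRingCat.of k))} [GrpObj G] [GrpObj H] [IsAffine G.left]
  (i : H ⟶ G) [IsMonHom i] [Mono i] [IsFinite H.hom]

/-- A finite scheme over a field is affine. -/
theorem isAffine_of_finite : IsAffine H.left := isAffine_of_isAffineHom H.hom

/-- Functions on the subgroup are restrictions. -/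
theorem ev_surjective : Function.Surjective (ev i) := by
  haveI := AntiAffine.isSeparated_grp G
  haveI := isAffine_of_finite (H := H)
  haveI : IsFinite (i.left ≫ G.hom) := by rw [Over.w]; infer_instance
  haveI : IsFinite i.left := IsFinite.of_comp i.left G.hom
  haveI : Mono i.left := inferInstance
  haveI : IsClosedImmersion i.left := (IsClosedImmersion.iff_isFinite_and_mono _).mpr ⟨inferInstance, inferInstance⟩
  exact ((IsClosedImmersion.isAffine_surjective_of_isAffine (f := i.left))).2

theorem finite_fn : Module.Finite k (Fn H) := by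
  have h := Scheme.Hom.finite_appTop H.hom
  exact RingHom.Finite.comp h
    (RingHom.Finite.of_surjective _ (ConcreteCategory.bijective_of_isIso (Scheme.ΓSpecIso (CommRingCat.of k)).inv).2)

theorem evPt_ev {X Y : Over (Spec (CommRingCat.of k))} (y : 𝟙_ (Over (Spec (CommRingCat.of k))) ⟶ X) (g : X ⟶ Y)
    (f : Fn Y) : evPt y (ev g f) = evPt (y ≫ g) f := by
  simp only [evPt, AlgHom.coe_mk, Over.comp_left, Scheme.Hom.comp_appTop, CommRingCat.comp_apply, CommRingCat.hom_comp,
    RingHom.comp_apply]
  rfl

omit [Mono i] [IsFinite H.hom] [IsAffine G.left] in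
theorem evPt_one_ev (f : Fn G) : evPt η[H] (ev i f) = evPt η[G] f := by
  rw [evPt_ev, IsMonHom.one_hom]

theorem nontrivial_fn : Nontrivial (Fn H) := (evPt η[H]).toRingHom.domain_nontrivial

omit [IsMonHom i] in
/-- Recognition of a kernel on points. -/
theorem isKernel_of (φ : G ⟶ G) (h1 : i ≫ φ = 1)
    (h : ∀ (T : Over (Spec (CommRingCat.of k))) (g : T ⟶ G), g ≫ φ = 1 → ∃ h : T ⟶ H, h ≫ i = g) :
    AlgGrp.IsKernel i φ := by
  choose l hl using h
  have hw : i ≫ φ = toUnit H ≫ η[G] := h1.trans Hom.one_def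
  refine ⟨⟨hw⟩, ⟨PullbackCone.IsLimit.mk hw (fun s => l s.pt s.fst ?_) (fun s => hl _ _ _)
    (fun s => toUnit_unique _ _) fun s m hm _ => ?_⟩⟩
  · rw [s.condition, Hom.one_def]
    exact congrArg (· ≫ η[G]) (toUnit_unique _ _)
  · rw [← cancel_mono i, hl]; exact hm

omit [IsMonHom i] in
/-- The points of the subgroup, by the equation of its coordinate. -/
theorem exists_lift (c : Fn G) (hs : Function.Surjective (aeval (R := k) (ev i c)))
    (hext : ∀ (T : Over (Spec (CommRingCat.of k))) (g g' : T ⟶ G), ev g c = ev g' c → g = g')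
    (T : Over (Spec (CommRingCat.of k))) (g : T ⟶ G) (hg : aeval (ev g c) (minpoly k (ev i c)) = 0) :
    ∃ h : T ⟶ H, h ≫ i = g := by
  haveI := isAffine_of_finite (H := H)
  let ψ : Fn H →ₐ[k] Fn T := AlgHom.liftOfSurjective (aeval (ev i c)) hs (aeval (ev g c)) fun q hq => by
    obtain ⟨r, rfl⟩ := minpoly.dvd k _ (RingHom.mem_ker.mp hq)
    show aeval (ev g c) (minpoly k (ev i c) * r) = 0
    rw [map_mul, hg, zero_mul]
  have hψ : ψ (ev i c) = ev g c := by
    have := AlgHom.liftOfSurjective_apply (aeval (ev i c)) hs (aeval (ev g c))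
    simpa [ψ] using this _ X
  obtain ⟨h, hh⟩ := LineGroups.exists_hom_ev ψ
  exact ⟨h, hext _ _ _ (by rw [← ev_ev, hh, hψ])⟩

omit [GrpObj G] in
/-- A self-map of an affine scheme with faithfully flat map on functions. -/
theorem flat_surjective_of (φ : G ⟶ G) (h : (ev φ).toRingHom.FaithfullyFlat) :
    Flat φ.left ∧ Surjective φ.left := by
  have h2 := (flat_and_surjective_SpecMap_iff φ.left.appTop).mpr h
  haveI := h2.1
  haveI := h2.2
  have e : φ.left = G.left.isoSpec.hom ≫ Spec.map φ.left.appTop ≫ G.left.isoSpec.inv := by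
    rw [← Category.assoc, Scheme.isoSpec_hom_naturality, Category.assoc, Iso.hom_inv_id, Category.comp_id]
  rw [e]
  exact ⟨inferInstance, inferInstance⟩

omit [GrpObj G] [IsAffine G.left] in
/-- Transport of faithful flatness to the coordinate ring. -/
theorem faithfullyFlat_ev {R : Type u} [CommRing R] [Algebra k R] (e : R ≃ₐ[k] Fn G) (ψ : R →ₐ[k] R)
    (hψ : ψ.toRingHom.FaithfullyFlat) (φ : G ⟶ G) (h : ev φ = (e.toAlgHom.comp ψ).comp e.symm.toAlgHom) :
    (ev φ).toRingHom.FaithfullyFlat := by
  rw [h]
  exact RingHom.FaithfullyFlat.stableUnderComposition _ _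
    (RingHom.FaithfullyFlat.of_bijective e.symm.bijective)
    (RingHom.FaithfullyFlat.stableUnderComposition _ _ hψ (RingHom.FaithfullyFlat.of_bijective e.bijective))

/-- An injective integral map of Dedekind domains is faithfully flat. -/
theorem faithfullyFlat_of_integral {R S : Type u} [CommRing R] [IsDedekindDomain R] [CommRing S] [IsDomain S]
    (f : R →+* S) (hf : Function.Injective f) (hi : f.IsIntegral) : f.FaithfullyFlat := by
  rw [RingHom.FaithfullyFlat.iff_flat_and_comap_surjective]
  algebraize [f]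
  haveI : Algebra.IsIntegral R S := ⟨hi⟩
  haveI : Module.IsTorsionFree R S := Module.isTorsionFree_iff_algebraMap_injective.mpr hf
  refine ⟨?_, fun P => ?_⟩
  · show Module.Flat R S
    rw [IsDedekindDomain.flat_iff_torsion_eq_bot, ← Submodule.isTorsionFree_iff_torsion_eq_bot]
    infer_instance
  · obtain ⟨Q, -, hQ, hQ'⟩ := Ideal.exists_ideal_over_prime_of_isIntegral P.asIdeal (⊥ : Ideal S)
      (by rw [Ideal.comap_bot_of_injective (algebraMap R S) hf]; exact bot_le)
    exact ⟨⟨Q, hQ⟩, PrimeSpectrum.ext hQ'⟩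

/-- Expansion of a polynomial at a sum. -/
theorem aeval_add_eq {B : Type u} [CommRing B] [Algebra k B] (p : k[X]) (a b : B) :
    aeval (a + b) p = ∑ j ∈ Finset.range (p.natDegree + 1), aeval a (hasseDeriv j p) * b ^ j := by
  have h1 : ∀ (x : B) (q : k[X]), aeval x q = (q.map (algebraMap k B)).eval x := fun x q => by
    rw [aeval_def, eval_map]
  rw [h1, add_comm a b, ← taylor_eval, eval_eq_sum_range' (n := p.natDegree + 1)
    (by rw [natDegree_taylor]; exact Nat.lt_succ_of_le natDegree_map_le)]
  refine Finset.sum_congr rfl fun j _ => ?_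
  rw [taylor_coeff, h1]
  congr 2
  ext n
  simp only [hasseDeriv_coeff, coeff_map, map_mul, map_natCast]

end Groth.Agent.LineSub
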