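import Groth.Agent.LineSub.Common

/-!
# Finite subgroup schemes of the additive group
-/

universe u

open CategoryTheory Limits AlgebraicGeometry MonoidalCategory CartesianMonoidalCategory MonObj GrpObj
open scoped Polynomial

namespace Groth.Agent.LineSub

open GrpSchLib GrpSchLib.Kunneth Polynomial

variable {k : Type u} [Field k] {G H : Over (Spec (CommRingCat.of k))} [GrpObj G] [GrpObj H] [IsAffine G.left]
  (i : H ⟶ G) [IsMonHom i] [Mono i] [IsFinite H.hom]

theorem exists_endo_Ga (φ₀ : k[X] ≃ₐ[k] Fn G) :
    ∃ φ : G ⟶ G, IsMonHom φ ∧ AlgGrp.IsKernel i φ ∧ Flat φ.left ∧ Surjective φ.left := by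
  classical
  haveI := AntiAffine.isSeparated_grp G
  haveI : IsAffine H.left := isAffine_of_finite
  haveI : Module.Finite k (Fn H) := finite_fn
  haveI : Nontrivial (Fn H) := nontrivial_fn
  let r := evPt η[G] (φ₀ X)
  let e : k[X] ≃ₐ[k] Fn G := (Polynomial.algEquivAevalXAddC (-r)).trans φ₀
  set c := e X with hc
  have h0 : evPt η[G] c = 0 := by
    show evPt η[G] (φ₀ (aeval _ X)) = 0
    rw [aeval_X, map_add, map_add]
    show r + evPt η[G] (φ₀ (algebraMap k _ (-r))) = 0
    rw [AlgEquiv.commutes, AlgHom.commutes]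
    exact add_neg_cancel r
  have hlaw := LineGroups.mul_coord_Ga G e h0
  have hmul : ∀ {T : Over (Spec (CommRingCat.of k))} (a b : T ⟶ G), ev (a * b) c = ev a c + ev b c := by
    intro T a b
    have h2 := congrArg (ev (lift a b)) hlaw
    rw [map_add, ev_ev, ev_ev, ev_ev, lift_fst, lift_snd, ← Hom.mul_def] at h2
    exact h2
  have hone : ∀ (T : Over (Spec (CommRingCat.of k))), ev (1 : T ⟶ G) c = 0 := fun T => by
    rw [Hom.one_def, one_fn_const, h0, map_zero]
  set t := ev i c with ht
  set p := minpoly k t with hp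
  set d := p.natDegree with hd
  have hint : IsIntegral k t := IsIntegral.of_finite k t
  have hmon : p.Monic := minpoly.monic hint
  have hd0 : 0 < d := minpoly.natDegree_pos hint
  have hpt : aeval t p = 0 := minpoly.aeval k t
  have hp0 : p.coeff 0 = 0 := by
    have h := congrArg (evPt η[H]) hpt
    rw [map_zero, ← aeval_algHom_apply, ht, evPt_one_ev, h0] at h
    simpa [coeff_zero_eq_aeval_zero] using h
  -- the comultiplication at the coordinate
  let x := ev (fst H H) t
  let y := ev (snd H H) t
  have hxy : aeval (x + y) p = 0 := by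
    have : ev μ[H] t = x + y := by
      show ev μ[H] (ev i c) = ev (fst H H) (ev i c) + ev (snd H H) (ev i c)
      rw [ev_ev, ev_ev, ev_ev, ← hmul, ← MonObj.mul_comp, Hom.mul_def, lift_fst_snd, Category.id_comp]
    rw [← this, aeval_algHom_apply, hpt, map_zero]
  have hy : aeval y p = 0 := by rw [aeval_algHom_apply, hpt, map_zero]
  let γ : ℕ → Fn H := fun j => aeval t (hasseDeriv j p) - algebraMap k _ (p.coeff j)
  have hsum : ∑ j ∈ Finset.range (d + 1), ev (fst H H) (γ j) * y ^ j = 0 := by
    simp only [γ, map_sub, sub_mul, Finset.sum_sub_distrib, AlgHom.commutes]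
    rw [show (∑ j ∈ Finset.range (d + 1), ev (fst H H) (aeval t (hasseDeriv j p)) * y ^ j) = aeval (x + y) p from ?_,
      show (∑ j ∈ Finset.range (d + 1), algebraMap k (Fn (H ⊗ H)) (p.coeff j) * y ^ j) = aeval y p from ?_,
      hxy, hy, sub_zero]
    · rw [aeval_eq_sum_range]
      simp only [Algebra.smul_def]
      rfl
    · rw [aeval_add_eq]
      simp only [x, aeval_algHom_apply]
      rfl
  have hγd : γ d = 0 := by
    have hC : hasseDeriv d p = C (p.coeff d) := by
      rw [eq_C_of_natDegree_eq_zero (by have := natDegree_hasseDeriv_le p d; omega : (hasseDeriv d p).natDegree = 0),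
        hasseDeriv_coeff, Nat.zero_add, Nat.choose_self, Nat.cast_one, _root_.one_mul]
    simp only [γ, hC, aeval_C, sub_self]
  rw [Finset.sum_range_succ, hγd, map_zero, zero_mul, add_zero, Finset.sum_range] at hsum
  have hγ : ∀ j : Fin d, γ j = 0 := fun j =>
    indep (X := H) (Y := H) (w := fun j : Fin d => t ^ (j : ℕ)) (linearIndependent_pow (K := k) t) Finset.univ
      (fun j => γ j) (by simpa only [map_pow] using hsum) j (Finset.mem_univ _)
  have hder : ∀ j, 0 < j → hasseDeriv j p = C (p.coeff j) := by
    intro j hj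
    have hle := natDegree_hasseDeriv_le p j
    rcases lt_or_ge j d with hjd | hjd
    · by_contra hne
      have h1 : (hasseDeriv j p - C (p.coeff j)).natDegree < d := by
        rw [natDegree_sub_C]; omega
      have h2 : aeval t (hasseDeriv j p - C (p.coeff j)) = 0 := by
        rw [map_sub, aeval_C]; exact hγ ⟨j, hjd⟩
      have h3 := natDegree_le_of_dvd (minpoly.dvd k t h2) (sub_ne_zero.mpr hne)
      change d ≤ _ at h3
      omega
    · rw [eq_C_of_natDegree_eq_zero (by omega : (hasseDeriv j p).natDegree = 0), hasseDeriv_coeff, Nat.zero_add,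
        Nat.choose_self, Nat.cast_one, _root_.one_mul]
  have hadd : ∀ {B : Type u} [CommRing B] [Algebra k B] (a b : B), aeval (a + b) p = aeval a p + aeval b p := by
    intro B _ _ a b
    rw [aeval_add_eq, aeval_eq_sum_range (x := b), Finset.sum_range_succ', Finset.sum_range_succ' (fun j => p.coeff j • b ^ j)]
    simp only [hasseDeriv_zero, LinearMap.id_apply, pow_zero, _root_.mul_one, hp0, zero_smul, add_zero]
    rw [add_comm (aeval a p)]
    congr 1
    refine Finset.sum_congr rfl fun j _ => ?_
    rw [hder _ (Nat.succ_pos _), aeval_C, Algebra.smul_def]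
  -- the endomorphism
  obtain ⟨f, hf⟩ := LineGroups.exists_hom_ev (X := G) (T := G) ((e.toAlgHom.comp (aeval p)).comp e.symm.toAlgHom)
  have hfT : ∀ {T : Over (Spec (CommRingCat.of k))} (g : T ⟶ G), ev (g ≫ f) c = aeval (ev g c) p := by
    intro T g
    rw [← ev_ev, hf, hc]
    simp only [AlgHom.comp_apply, AlgEquiv.coe_toAlgHom, AlgEquiv.symm_apply_apply, aeval_X]
    exact LineGroups.ev_aeval G e g p
  have hext : ∀ (T : Over (Spec (CommRingCat.of k))) (g g' : T ⟶ G), ev g c = ev g' c → g = g' :=
    fun T g g' h => LineGroups.ext_coord_Ga e h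
  haveI : IsMonHom f := by
    refine @IsMonHom.mk _ _ _ G G _ _ f ?_ ?_
    · refine hext _ _ _ ?_
      have he : ∀ (g : 𝟙_ (Over (Spec (CommRingCat.of k))) ⟶ G), g = η[G] → ev g c = 0 := by
        rintro g rfl
        rw [show η[G] = toUnit _ ≫ η[G] by rw [toUnit_unique (toUnit (𝟙_ _)) (𝟙 _), Category.id_comp],
          one_fn_const, h0, map_zero]
      rw [hfT, he _ rfl, coeff_zero_eq_aeval_zero' p |>.symm, hp0, map_zero]
    · refine hext _ _ _ ?_
      have hm : μ[G] = fst G G * snd G G := by rw [Hom.mul_def, lift_fst_snd, Category.id_comp]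
      rw [hfT, hm, hmul, hadd, ← hfT, ← hfT, ← hmul, Hom.mul_def, ← lift_fst_comp_snd_comp, ← hm]
  refine ⟨f, inferInstance, isKernel_of i f ?_ ?_, ?_⟩
  · exact hext _ _ _ (by rw [hfT, hone, ← ht, hpt])
  · intro T g hg
    refine exists_lift i c ?_ hext T g ?_
    · intro z
      obtain ⟨f', rfl⟩ := ev_surjective i z
      obtain ⟨q, rfl⟩ := e.surjective f'
      exact ⟨q, (LineGroups.ev_aeval G e i q).symm⟩
    · show aeval (ev g c) p = 0
      rw [← hfT, hg, hone]
  · refine flat_surjective_of f (faithfullyFlat_ev e (aeval p) (faithfullyFlat_of_integral _ ?_ ?_) f hf)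
    · intro a b hab
      change aeval p a = aeval p b at hab
      rw [← sub_eq_zero, ← map_sub, aeval_def, Polynomial.algebraMap_eq] at hab
      change (a - b).comp p = 0 at hab
      rcases comp_eq_zero_iff.mp hab with h | ⟨-, h⟩
      · exact sub_eq_zero.mp h
      · exact absurd (by rw [hd, h, natDegree_C]) hd0.ne'
    · let ψ := (aeval p : k[X] →ₐ[k] k[X]).toRingHom
      show ψ.IsIntegral
      have hC : ∀ a : k, ψ (C a) = C a := fun a => aeval_C p a
      have hX : ψ.IsIntegralElem X := by
        refine ⟨p.map C - C X, ?_, ?_⟩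
        · refine (hmon.map C).sub_of_left ((degree_C_le).trans_lt ?_)
          rw [degree_eq_natDegree (hmon.map C).ne_zero, hmon.natDegree_map]
          exact_mod_cast hd0
        · rw [eval₂_sub, eval₂_C, eval₂_map, show ψ.comp C = C from RingHom.ext hC, eval₂_C_X,
            show ψ X = p from aeval_X p, sub_self]
      intro q
      induction q using Polynomial.induction_on with
      | C a => rw [← hC a]; exact ψ.isIntegralElem_map
      | add a b ha hb => exact RingHom.IsIntegralElem.add ψ ha hb
      | monomial n a h => rw [pow_succ, ← _root_.mul_assoc]; exact RingHom.IsIntegralElem.mul ψ h hX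

end Groth.Agent.LineSub
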