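import Groth.Agent.LineSub.Common
import Mathlib.Algebra.Polynomial.Laurent
import Mathlib.RingTheory.DedekindDomain.Dvr

/-!
# Finite subgroup schemes of the multiplicative group
-/

universe u

open CategoryTheory Limits AlgebraicGeometry MonoidalCategory CartesianMonoidalCategory MonObj GrpObj
open scoped Polynomial LaurentPolynomial

namespace Groth.Agent.LineSub

open GrpSchLib GrpSchLib.Kunneth Polynomial

variable {k : Type u} [Field k]

/-- The algebra map out of the Laurent polynomials sending the variable to a unit. -/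
noncomputable def algT {A : Type u} [CommRing A] [Algebra k A] (v : Aˣ) : k[T;T⁻¹] →ₐ[k] A :=
  AddMonoidAlgebra.lift k A ℤ ((Units.coeHom A).comp (zpowersHom Aˣ v))

theorem algT_T {A : Type u} [CommRing A] [Algebra k A] (v : Aˣ) : algT (k := k) v (LaurentPolynomial.T 1) = v := by
  rw [algT, LaurentPolynomial.T, AddMonoidAlgebra.lift_single, one_smul]
  simp

/-- The unit c T of the Laurent polynomials. -/
noncomputable def scaleUnit (c : kˣ) : k[T;T⁻¹]ˣ :=
  Units.map (LaurentPolynomial.C : k →+* k[T;T⁻¹]).toMonoidHom c * (LaurentPolynomial.isUnit_T 1).unit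

theorem scale_comp (a b : kˣ) (h : a * b = 1) :
    (algT (k := k) (scaleUnit a)).comp (algT (scaleUnit b)) = AlgHom.id k _ := by
  refine LineGroups.algHom_ext_T ?_
  have hC : ∀ (f : k[T;T⁻¹] →ₐ[k] k[T;T⁻¹]) (x : k), f (LaurentPolynomial.C x) = LaurentPolynomial.C x :=
    fun f x => f.commutes x
  simp only [AlgHom.comp_apply, algT_T, scaleUnit, Units.val_mul, IsUnit.unit_spec, map_mul, Units.coe_map,
    RingHom.toMonoidHom_eq_coe, MonoidHom.coe_coe, hC, AlgHom.id_apply]
  rw [← _root_.mul_assoc, ← map_mul, ← Units.val_mul, _root_.mul_comm b, h, Units.val_one, map_one, _root_.one_mul]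

/-- Scaling of the coordinate. -/
noncomputable def scale (c : kˣ) : k[T;T⁻¹] ≃ₐ[k] k[T;T⁻¹] :=
  AlgEquiv.ofAlgHom (algT (scaleUnit c)) (algT (scaleUnit c⁻¹)) (scale_comp _ _ (mul_inv_cancel c))
    (scale_comp _ _ (inv_mul_cancel c))

theorem scale_T (c : kˣ) : scale c (LaurentPolynomial.T 1) = algebraMap k _ (c : k) * LaurentPolynomial.T 1 := by
  show algT (scaleUnit c) (LaurentPolynomial.T 1) = _
  rw [algT_T, scaleUnit, Units.val_mul, IsUnit.unit_spec]
  rfl

variable {G H : Over (Spec (CommRingCat.of k))} [GrpObj G] [GrpObj H] [IsAffine G.left]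
  (i : H ⟶ G) [IsMonHom i] [Mono i] [IsFinite H.hom]

theorem exists_endo_Gm (φ₀ : k[T;T⁻¹] ≃ₐ[k] Fn G) :
    ∃ φ : G ⟶ G, IsMonHom φ ∧ AlgGrp.IsKernel i φ ∧ Flat φ.left ∧ Surjective φ.left := by
  classical
  haveI := AntiAffine.isSeparated_grp G
  haveI : IsAffine H.left := isAffine_of_finite
  haveI : Module.Finite k (Fn H) := finite_fn
  haveI : Nontrivial (Fn H) := nontrivial_fn
  have hw : IsUnit (evPt η[G] (φ₀ (LaurentPolynomial.T 1))) :=
    ((LaurentPolynomial.isUnit_T (R := k) 1).map φ₀).map _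
  let e : k[T;T⁻¹] ≃ₐ[k] Fn G := (scale hw.unit⁻¹).trans φ₀
  set c := e (LaurentPolynomial.T 1) with hc
  have hcu : IsUnit c := (LaurentPolynomial.isUnit_T (R := k) 1).map e
  have h0 : evPt η[G] c = 1 := by
    show evPt η[G] (φ₀ (scale hw.unit⁻¹ (LaurentPolynomial.T 1))) = 1
    rw [scale_T, map_mul, map_mul, AlgEquiv.commutes, AlgHom.commutes]
    exact hw.val_inv_mul
  have hlaw := LineGroups.mul_coord_Gm G e
  rw [h0, inv_one, one_smul] at hlaw
  have hmul : ∀ {T : Over (Spec (CommRingCat.of k))} (a b : T ⟶ G), ev (a * b) c = ev a c * ev b c := by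
    intro T a b
    have h2 := congrArg (ev (lift a b)) hlaw
    rw [map_mul, ev_ev, ev_ev, ev_ev, lift_fst, lift_snd, ← Hom.mul_def] at h2
    exact h2
  have hone : ∀ (T : Over (Spec (CommRingCat.of k))), ev (1 : T ⟶ G) c = 1 := fun T => by
    rw [Hom.one_def, one_fn_const, h0, map_one]
  set t := ev i c with ht
  have htu : IsUnit t := hcu.map _
  set p := minpoly k t with hp
  set d := p.natDegree with hd
  have hint : IsIntegral k t := IsIntegral.of_finite k t
  have hmon : p.Monic := minpoly.monic hint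
  have hd0 : 0 < d := minpoly.natDegree_pos hint
  have hpt : aeval t p = 0 := minpoly.aeval k t
  have hexp : t ^ d = ∑ j ∈ Finset.range d, -p.coeff j • t ^ j := by
    have h := hpt
    rw [aeval_eq_sum_range, Finset.sum_range_succ, show p.coeff p.natDegree = 1 from hmon, one_smul] at h
    simp only [neg_smul, Finset.sum_neg_distrib]
    exact (neg_eq_of_add_eq_zero_right h).symm
  have hcomul : ev μ[H] t = ev (fst H H) t * ev (snd H H) t := by
    show ev μ[H] (ev i c) = ev (fst H H) (ev i c) * ev (snd H H) (ev i c)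
    rw [ev_ev, ev_ev, ev_ev, ← hmul, ← MonObj.mul_comp, Hom.mul_def, lift_fst_snd, Category.id_comp]
  have hev1 : evPt η[H] t = 1 := by rw [ht, evPt_one_ev, h0]
  have hsum : ∑ j : Fin d, ev (fst H H) (-p.coeff j • (t ^ (j : ℕ) - t ^ d)) * ev (snd H H) (t ^ (j : ℕ)) = 0 := by
    have h1 := congrArg (ev μ[H]) hexp
    simp only [map_pow, map_sum, map_smul, hcomul, mul_pow] at h1
    have h2 : ev (fst H H) (t ^ d) * ev (snd H H) (t ^ d) =
        ∑ j ∈ Finset.range d, ev (fst H H) (-p.coeff j • t ^ d) * ev (snd H H) (t ^ j) := by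
      conv_lhs => arg 2; rw [hexp]
      rw [map_sum, Finset.mul_sum]
      refine Finset.sum_congr rfl fun j _ => ?_
      rw [map_smul, map_smul, mul_smul_comm, smul_mul_assoc]
    simp only [smul_sub, map_sub, sub_mul, Finset.sum_sub_distrib]
    rw [← Finset.sum_range (f := fun j => ev (fst H H) (-p.coeff j • t ^ j) * ev (snd H H) (t ^ j)),
      ← Finset.sum_range (f := fun j => ev (fst H H) (-p.coeff j • t ^ d) * ev (snd H H) (t ^ j)), ← h2, map_pow,
      map_pow, h1, sub_eq_zero]
    refine Finset.sum_congr rfl fun j _ => ?_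
    rw [map_smul, map_pow, smul_mul_assoc]
    exact congrArg _ (by rw [map_pow])
  have hγ : ∀ j : Fin d, -p.coeff j • (t ^ (j : ℕ) - t ^ d) = 0 := fun j =>
    indep (X := H) (Y := H) (w := fun j : Fin d => t ^ (j : ℕ)) (linearIndependent_pow (K := k) t) Finset.univ
      _ hsum j (Finset.mem_univ _)
  obtain ⟨j, hjd, hj⟩ : ∃ j, j < d ∧ p.coeff j ≠ 0 := by
    by_contra! hall
    have h := congrArg (evPt η[H]) hexp
    rw [map_pow, hev1, one_pow, Finset.sum_eq_zero fun j hj => by rw [hall j (Finset.mem_range.mp hj), neg_zero, zero_smul],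
      map_zero] at h
    exact one_ne_zero h
  have htj : t ^ j = t ^ d := sub_eq_zero.mp ((smul_eq_zero_iff_right (neg_ne_zero.mpr hj)).mp (hγ ⟨j, hjd⟩))
  have htd : t ^ (d - j) = 1 := by
    apply (htu.pow j).mul_left_cancel
    rw [_root_.mul_one, ← pow_add, Nat.add_sub_cancel' hjd.le, htj]
  have hmin : ∀ m : ℕ, 0 < m → t ^ m = 1 → d ≤ m := fun m hm h => by
    have h3 := natDegree_le_of_dvd (minpoly.dvd k t (p := X ^ m - C 1) (by simp [h])) (X_pow_sub_C_ne_zero hm 1)
    rwa [natDegree_X_pow_sub_C] at h3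
  obtain rfl : j = 0 := by have := hmin _ (Nat.sub_pos_of_lt hjd) htd; omega
  rw [Nat.sub_zero] at htd
  have hpd : p = X ^ d - C 1 := by
    refine (eq_of_monic_of_dvd_of_natDegree_le hmon (monic_X_pow_sub_C 1 hd0.ne') (minpoly.dvd k t (by simp [htd]))
      (by rw [natDegree_X_pow_sub_C])).symm
  -- the endomorphism
  let m : ℤ →+ ℤ := AddMonoidHom.mulLeft (d : ℤ)
  let ψ : k[T;T⁻¹] →ₐ[k] k[T;T⁻¹] := AddMonoidAlgebra.mapDomainAlgHom k k m
  have hψT : ∀ n : ℤ, ψ (LaurentPolynomial.T n) = LaurentPolynomial.T n ^ d := fun n => by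
    rw [LaurentPolynomial.T_pow]
    exact AddMonoidAlgebra.mapDomain_single
  obtain ⟨f, hf⟩ := LineGroups.exists_hom_ev (X := G) (T := G) ((e.toAlgHom.comp ψ).comp e.symm.toAlgHom)
  have hfT : ∀ {T : Over (Spec (CommRingCat.of k))} (g : T ⟶ G), ev (g ≫ f) c = ev g c ^ d := by
    intro T g
    rw [← ev_ev, hf, hc]
    simp only [AlgHom.comp_apply, AlgEquiv.coe_toAlgHom, AlgEquiv.symm_apply_apply, hψT, map_pow]
  have hext : ∀ (T : Over (Spec (CommRingCat.of k))) (g g' : T ⟶ G), ev g c = ev g' c → g = g' :=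
    fun T g g' h => LineGroups.ext_coord_Gm e h
  haveI : IsMonHom f := by
    refine @IsMonHom.mk _ _ _ G G _ _ f ?_ ?_
    · refine hext _ _ _ ?_
      have he : ∀ (g : 𝟙_ (Over (Spec (CommRingCat.of k))) ⟶ G), g = η[G] → ev g c = 1 := by
        rintro g rfl
        rw [show η[G] = toUnit _ ≫ η[G] by rw [toUnit_unique (toUnit (𝟙_ _)) (𝟙 _), Category.id_comp],
          one_fn_const, h0, map_one]
      rw [hfT, he _ rfl, one_pow]
    · refine hext _ _ _ ?_
      have hm : μ[G] = fst G G * snd G G := by rw [Hom.mul_def, lift_fst_snd, Category.id_comp]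
      rw [hfT, hm, hmul, mul_pow, ← hfT, ← hfT, ← hmul, Hom.mul_def, ← lift_fst_comp_snd_comp, ← hm]
  refine ⟨f, inferInstance, isKernel_of i f ?_ ?_, ?_⟩
  · exact hext _ _ _ (by rw [hfT, hone, ← ht, htd])
  · intro T g hg
    refine exists_lift i c ?_ hext T g ?_
    · intro z
      obtain ⟨f', rfl⟩ := ev_surjective i z
      obtain ⟨q, rfl⟩ := e.surjective f'
      show ev i (e q) ∈ (aeval t : k[X] →ₐ[k] _).range
      induction q using LaurentPolynomial.induction_on' with
      | add a b ha hb => rw [map_add, map_add]; exact add_mem ha hb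
      | C_mul_T n a =>
        rw [map_mul, map_mul, show LaurentPolynomial.C a = algebraMap k (LaurentPolynomial k) a from rfl, AlgEquiv.commutes, AlgHom.commutes]
        refine mul_mem (Subalgebra.algebraMap_mem _ _) ⟨X ^ ((n : ℤ) + d * n.natAbs).toNat, ?_⟩
        have hn : 0 ≤ n + d * n.natAbs := by
          have : (n.natAbs : ℤ) ≤ d * n.natAbs := le_mul_of_one_le_left (by positivity) (by exact_mod_cast hd0)
          omega
        show aeval t (X ^ _) = _
        rw [map_pow, aeval_X, ht, hc, ← map_pow, ← map_pow, LaurentPolynomial.T_pow, _root_.mul_one,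
          Int.toNat_of_nonneg hn, LaurentPolynomial.T_add, map_mul, map_mul,
          show ((d : ℤ) * n.natAbs : ℤ) = ((d * n.natAbs : ℕ) : ℤ) * 1 by push_cast; ring,
          ← LaurentPolynomial.T_pow, map_pow, map_pow, ← hc, ← ht, pow_mul, htd, one_pow, _root_.mul_one]
    · show aeval (ev g c) p = 0
      rw [hpd, map_sub, map_pow, aeval_X, aeval_C, map_one, ← hfT, hg, hone, sub_self]
  · haveI : IsDomain k[T;T⁻¹] :=
      IsLocalization.isDomain_of_le_nonZeroDivisors k[T;T⁻¹] (M := Submonoid.powers (X : k[X]))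
        (powers_le_nonZeroDivisors_of_noZeroDivisors X_ne_zero)
    haveI : IsDedekindDomain k[T;T⁻¹] := IsLocalization.isDedekindDomain k[X]
      (powers_le_nonZeroDivisors_of_noZeroDivisors X_ne_zero) k[T;T⁻¹]
    refine flat_surjective_of f (faithfullyFlat_ev e ψ (faithfullyFlat_of_integral _ ?_ ?_) f hf)
    · exact AddMonoidAlgebra.mapDomain_injective fun a b h => mul_left_cancel₀ (by exact_mod_cast hd0.ne') h
    · let φ := ψ.toRingHom
      have hT : ∀ n : ℤ, φ.IsIntegralElem (LaurentPolynomial.T n) := fun n => by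
        refine ⟨X ^ d - C (LaurentPolynomial.T n), monic_X_pow_sub_C _ hd0.ne', ?_⟩
        rw [eval₂_sub, eval₂_X_pow, eval₂_C, show φ (LaurentPolynomial.T n) = _ from hψT n, sub_self]
      intro q
      induction q using LaurentPolynomial.induction_on' with
      | add a b ha hb => exact RingHom.IsIntegralElem.add φ ha hb
      | C_mul_T n a =>
        refine RingHom.IsIntegralElem.mul φ ?_ (hT n)
        rw [show LaurentPolynomial.C a = algebraMap k (LaurentPolynomial k) a from rfl, ← ψ.commutes]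
        exact φ.isIntegralElem_map

end Groth.Agent.LineSub
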